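import Groth.Agent.Sga4h.H928.DeckCmp
import Groth.Prelude.Def_FinFr

/-!
# Local Frobenius traces of rank one sheaves

* `finrank_H_zero`: `H⁰(Y, t⁻¹ F)` is free of rank one if `Y` is connected and `t⁻¹ F` is constant of
  rank one.
* `trace_eq_one_iff`: an endomorphism of a one-dimensional space is the identity iff its trace is `1`.
* `locTrace_of_isConst`: `L` constant of rank one has local traces `1`.
-/

set_option autoImplicit false
universe u

open CategoryTheory CategoryTheory.Limits AlgebraicGeometry Opposite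

namespace Groth.Agent.Sga4h.H928.PtRank

open Groth.Agent.Etcore.LocSec Groth.Agent.Etcore.LocEt Groth.Agent.Etcore.PullCoh
open Groth.Agent.Sga4h.H917.GSec Groth.Agent.Sga4h.H917.Desc Groth.Agent.Sga4h.H928.DeckCmp
open Groth.Agent.Sga4B.HVia Groth.Agent.Etcore.HpullCalc Groth.Agent.Etcore.EtInst

section Lin

variable {Λ : Type*} [Field Λ] {V : Type*} [AddCommGroup V] [Module Λ V]

/-- A generator of a one dimensional space. -/
def IsGenV (x₀ : V) : Prop := Function.Bijective (fun r : Λ => r • x₀)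

theorem eq_smul_of_gen {x₀ : V} (h : IsGenV (Λ := Λ) x₀) (φ : V →ₗ[Λ] V) :
    ∃ c : Λ, φ = c • LinearMap.id ∧ LinearMap.trace Λ V φ = c := by
  obtain ⟨c, hc⟩ := h.2 (φ x₀)
  have h1 : φ = c • LinearMap.id := by
    ext x
    obtain ⟨r, rfl⟩ := h.2 x
    change φ (r • x₀) = c • (r • x₀)
    rw [map_smul, smul_comm c r]
    exact congrArg _ hc.symm
  let e : Λ ≃ₗ[Λ] V := LinearEquiv.ofBijective (LinearMap.toSpanSingleton Λ V x₀) h
  have h2 : Module.finrank Λ V = 1 := by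
    rw [← e.finrank_eq, Module.finrank_self]
  refine ⟨c, h1, ?_⟩
  have : Module.Finite Λ V := Module.Finite.equiv e
  rw [h1, map_smul, LinearMap.trace_id, h2]
  simp

theorem eq_id_of_trace {x₀ : V} (h : IsGenV (Λ := Λ) x₀) (φ : V →ₗ[Λ] V)
    (h1 : LinearMap.trace Λ V φ = 1) : φ = LinearMap.id := by
  obtain ⟨c, hc, hc'⟩ := eq_smul_of_gen h φ
  rw [hc, ← hc', h1, one_smul]

theorem trace_id_of_gen {x₀ : V} (h : IsGenV (Λ := Λ) x₀) :
    LinearMap.trace Λ V (LinearMap.id : V →ₗ[Λ] V) = 1 := by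
  obtain ⟨c, hc, hc'⟩ := eq_smul_of_gen h (LinearMap.id : V →ₗ[Λ] V)
  rw [hc']
  apply h.1
  have := DFunLike.congr_fun hc x₀
  simpa using this.symm

end Lin

variable {Λ : Type} [Field Λ] {X Y : Scheme.{u}}

/-- `H⁰` as global sections. -/
noncomputable def E0 (F : EtCoh.Ab Y) : EtCoh.H Y F 0 ≃ EtCoh.sect F (EtCoh.top Y) :=
  (H0 Y F).toEquiv

theorem E0_map {F G : EtCoh.Ab Y} (φ : F ⟶ G) (x : EtCoh.H Y F 0) :
    E0 G (Sheaf.H.map φ 0 x) = app φ _ (E0 F x) := H0_map φ x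

theorem E0_smul (L : EtLam.Sheaf Λ Y) (r : Λ) (x : EtCoh.H Y L.carrier 0) :
    E0 L.carrier (r • x) = app (L.act r) _ (E0 L.carrier x) := E0_map (L.act r) x

theorem gen_of_equiv {V : Type*} [AddCommGroup V] [Module Λ V] [ConnectedSpace Y] {t : Y ⟶ X}
    {F : EtLam.Sheaf Λ X} (h : LangSh.IsConstOn t F)
    (E : V ≃ EtCoh.sect ((EtCoh.pull t).obj F.carrier) (EtCoh.top Y))
    (hE : ∀ (r : Λ) (x : V), E (r • x) = app ((EtCoh.pull t).map (F.act r)) _ (E x)) :
    ∃ x₀ : V, IsGenV (Λ := Λ) x₀ := by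
  obtain ⟨u, hu⟩ := Gen.exists h
  obtain ⟨x₀, rfl⟩ := E.surjective u
  refine ⟨x₀, fun a b hab => ?_, fun y => ?_⟩
  · have h1 : E (a • x₀) = E (b • x₀) := congrArg E hab
    rw [hE, hE] at h1
    exact hu.inj h1
  · obtain ⟨r, hr⟩ := hu.rep (E y)
    refine ⟨r, E.injective ?_⟩
    change E (r • x₀) = E y
    rw [hE, hr]

/-- `γ^*` is trivial on `Γ(Y, t⁻¹ F)`, `F` constant. -/
theorem gpV_eq_of_isConst [ConnectedSpace Y] (t : Y ⟶ X) (γ : Y ⟶ Y) (w : γ ≫ t = t)
    (F : EtLam.Sheaf Λ X) (hF : IsConst F)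
    (x : EtCoh.sect ((EtCoh.pull t).obj F.carrier) (EtCoh.top Y)) :
    gpV γ t w F.carrier x = x := by
  obtain ⟨e, -⟩ := hF
  have key : ∃ s, x = gp t F.carrier s := by
    obtain ⟨m, hm⟩ := (cst_bijective Y Λ).2
      (app (EtCore.pullConst t Λ).hom _ (app ((EtCoh.pull t).map e.hom) _ x))
    refine ⟨app e.inv _ (cst X Λ m), ?_⟩
    apply (app_bijective ((EtCoh.pull t).map e.hom) _).1
    apply (app_bijective (EtCore.pullConst t Λ).hom _).1
    rw [← hm, ← gp_map, ← app_comp e.inv e.hom, Iso.inv_hom_id, app_id, gp_cst]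
  obtain ⟨s, hs⟩ := key
  rw [hs, gpV_gp]

section Trace

/-- A constant sheaf is constant on every `t`. -/
theorem isConstOn_of_isConst (t : Y ⟶ X) {L : EtLam.Sheaf Λ X} (h : IsConst L) :
    LangSh.IsConstOn t L := by
  obtain ⟨e, he⟩ := h
  refine ⟨(EtCoh.pull t).mapIso e ≪≫ EtCore.pullConst t Λ, fun r => ?_⟩
  have h1 : (EtCoh.pull t).map (L.act r) ≫ (EtCoh.pull t).map e.hom =
      (EtCoh.pull t).map e.hom ≫ (EtCoh.pull t).map (FinFr.constSMul X r) := by
    rw [← Functor.map_comp, ← Functor.map_comp, he]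
  have h2 : (EtCoh.pull t).map (FinFr.constSMul X r) ≫ (EtCore.pullConst t Λ).hom =
      (EtCore.pullConst t Λ).hom ≫ FinFr.constSMul Y r :=
    (EtCore.pullConstIso t).hom.naturality _
  rw [Iso.trans_hom, Functor.mapIso_hom, ← Category.assoc, h1, Category.assoc, h2, Category.assoc]

variable {k K : Type u} [Field k] [Fintype k] [Field K] [Algebra k K] [Algebra.IsAlgebraic k K]
  [Fact FinFr.PullExact.{u}]

instance connectedSpace_ext : ConnectedSpace (FinFr.ext K (𝟙 (Spec (CommRingCat.of k)))) := by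
  have h1 : IsIso (FinFr.extStr K (𝟙 (Spec (CommRingCat.of k)))) := inferInstance
  have h2 : Function.Surjective (inv (FinFr.extStr K (𝟙 (Spec (CommRingCat.of k))))) :=
    (inv (FinFr.extStr K (𝟙 (Spec (CommRingCat.of k))))).surjective
  have h3 : ConnectedSpace (Spec (CommRingCat.of K)) := inferInstance
  exact h2.connectedSpace (inv (FinFr.extStr K (𝟙 (Spec (CommRingCat.of k))))).continuous

/-- The local Frobenius on global sections. -/
theorem E0_locFrob (x : Spec (CommRingCat.of k) ⟶ X) (L : EtLam.Sheaf Λ X)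
    (y : EtCoh.H (FinFr.ext K (𝟙 (Spec (CommRingCat.of k))))
      ((EtCoh.pull (FinFr.extπ K (𝟙 _))).obj (EtLam.pullback x L).carrier) 0) :
    E0 ((EtCoh.pull (FinFr.extπ K (𝟙 _))).obj (EtLam.pullback x L).carrier)
        (FinFr.locFrob (K := K) x L y) =
      gpV (FinFr.galAct (𝟙 _) (FinFr.arith k K).symm) (FinFr.extπ K (𝟙 _))
        (FinFr.galAct_fst (𝟙 _) (FinFr.arith k K).symm) (EtLam.pullback x L).carrier
        (E0 ((EtCoh.pull (FinFr.extπ K (𝟙 _))).obj (EtLam.pullback x L).carrier) y) :=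
  H0_hpVia (FinFr.galAct (𝟙 _) (FinFr.arith k K).symm) (FinFr.extπ K (𝟙 _)) (FinFr.extπ K (𝟙 _))
    (FinFr.galAct_fst (𝟙 _) (FinFr.arith k K).symm) (EtLam.pullback x L).carrier y

/-- The local traces of a constant sheaf are `1`. -/
theorem locTrace_of_isConst (x : Spec (CommRingCat.of k) ⟶ X) (L : EtLam.Sheaf Λ X)
    (hL : IsConst L) : FinFr.locTrace (K := K) x L = 1 := by
  have h1 : IsConst (EtLam.pullback x L) := isConstOn_of_isConst x hL
  obtain ⟨x₀, hx₀⟩ := gen_of_equiv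
    (V := EtCoh.H _ (EtLam.pullback (FinFr.extπ K (𝟙 _)) (EtLam.pullback x L)).carrier 0)
    (isConstOn_of_isConst (FinFr.extπ K (𝟙 _)) h1)
    (E0 ((EtCoh.pull (FinFr.extπ K (𝟙 _))).obj (EtLam.pullback x L).carrier))
    (E0_smul (EtLam.pullback (FinFr.extπ K (𝟙 _)) (EtLam.pullback x L)))
  have h2 : FinFr.locFrob (K := K) x L = LinearMap.id := by
    refine LinearMap.ext fun y =>
      (E0 ((EtCoh.pull (FinFr.extπ K (𝟙 _))).obj (EtLam.pullback x L).carrier)).injective ?_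
    exact (E0_locFrob x L y).trans
      (gpV_eq_of_isConst (FinFr.extπ K (𝟙 _)) _ _ (EtLam.pullback x L) h1 _)
  rw [FinFr.locTrace, h2]
  exact trace_id_of_gen hx₀

/-- A local Frobenius of a rank one sheaf of trace `1` is trivial. -/
theorem locFrob_eq_id (x : Spec (CommRingCat.of k) ⟶ X) (L : EtLam.Sheaf Λ X)
    (h : LangSh.IsConstOn (FinFr.extπ K (𝟙 _)) (EtLam.pullback x L))
    (h1 : FinFr.locTrace (K := K) x L = 1) : FinFr.locFrob (K := K) x L = LinearMap.id := by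
  obtain ⟨x₀, hx₀⟩ := gen_of_equiv
    (V := EtCoh.H _ (EtLam.pullback (FinFr.extπ K (𝟙 _)) (EtLam.pullback x L)).carrier 0) h
    (E0 ((EtCoh.pull (FinFr.extπ K (𝟙 _))).obj (EtLam.pullback x L).carrier))
    (E0_smul (EtLam.pullback (FinFr.extπ K (𝟙 _)) (EtLam.pullback x L)))
  exact eq_id_of_trace hx₀ _ h1

end Trace

end Groth.Agent.Sga4h.H928.PtRank
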