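import Mathlib.AlgebraicGeometry.Morphisms.Affine
import Mathlib.AlgebraicGeometry.Morphisms.ClosedImmersion
import Mathlib.Algebra.MvPolynomial.Eval
import Mathlib.Algebra.Polynomial.AlgebraMap
import Mathlib.RingTheory.MvPolynomial.Basic
import Mathlib.RingTheory.Ideal.Quotient.Operations

/-!
# Coordinate subspaces of affine space

`res k S j₀ : k[x_i] → k[x_i, i ∉ S, i ≠ j₀][X]` kills `x_i` for `i ∈ S` and sends `x_{j₀}` to `X`.  The
image on spectra is `{p | ∀ i ∈ S, x_i ∈ p}`; for `S` nonempty it factors through `k[x_i]/(∏ x_i)`.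
-/

set_option autoImplicit false
universe u

open CategoryTheory CategoryTheory.Limits AlgebraicGeometry Polynomial

namespace Groth.Agent.Sga4h.H928.Coord

variable {n : ℕ} (k : Type u) [CommRing k] (S : Finset (Fin n)) (j₀ : Fin n)

/-- The remaining indices. -/
abbrev Idx : Type := {i : Fin n // i ∉ S ∧ i ≠ j₀}

/-- Restriction to the coordinate subspace `x_i = 0`, `i ∈ S`. -/
noncomputable def res : MvPolynomial (Fin n) k →ₐ[k] (MvPolynomial (Idx S j₀) k)[X] :=
  MvPolynomial.aeval fun i => if h : i ∈ S then 0 else if h' : i = j₀ then X else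
    C (MvPolynomial.X ⟨i, h, h'⟩)

theorem res_X_mem {i : Fin n} (h : i ∈ S) : res k S j₀ (MvPolynomial.X i) = 0 := by
  rw [res, MvPolynomial.aeval_X, dif_pos h]

theorem res_X_j (h : j₀ ∉ S) : res k S j₀ (MvPolynomial.X j₀) = X := by
  rw [res, MvPolynomial.aeval_X, dif_neg h, dif_pos rfl]

theorem res_X_idx (i : Idx S j₀) : res k S j₀ (MvPolynomial.X i.1) = C (MvPolynomial.X i) := by
  rw [res, MvPolynomial.aeval_X, dif_neg i.2.1, dif_neg i.2.2]

/-- The section of `res`. -/
noncomputable def sec : (MvPolynomial (Idx S j₀) k)[X] →+* MvPolynomial (Fin n) k :=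
  Polynomial.eval₂RingHom
    (MvPolynomial.aeval (fun i : Idx S j₀ => (MvPolynomial.X i.1 : MvPolynomial (Fin n) k))).toRingHom
    (MvPolynomial.X j₀)

theorem sec_X : sec k S j₀ X = MvPolynomial.X j₀ := by
  simp [sec]

theorem sec_C_X (i : Idx S j₀) : sec k S j₀ (C (MvPolynomial.X i)) = MvPolynomial.X i.1 := by
  simp [sec]

theorem sec_C_C (a : k) : sec k S j₀ (C (MvPolynomial.C a)) = MvPolynomial.C a := by
  simp [sec]

theorem res_C (a : k) : res k S j₀ (MvPolynomial.C a) = C (MvPolynomial.C a) := by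
  have := (res k S j₀).commutes a
  exact this

theorem res_surjective (h : j₀ ∉ S) : Function.Surjective (res k S j₀) := by
  have key : (res k S j₀).toRingHom.comp (sec k S j₀) = RingHom.id _ := by
    refine Polynomial.ringHom_ext' ?_ ?_
    · refine MvPolynomial.ringHom_ext ?_ ?_
      · intro a
        simp only [AlgHom.toRingHom_eq_coe, RingHom.coe_comp, RingHom.coe_coe,
          Function.comp_apply, sec_C_C, res_C, RingHom.id_apply]
      · intro i
        simp only [AlgHom.toRingHom_eq_coe, RingHom.coe_comp, RingHom.coe_coe,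
          Function.comp_apply, sec_C_X, res_X_idx, RingHom.id_apply]
    · simp only [AlgHom.toRingHom_eq_coe, RingHom.coe_comp, RingHom.coe_coe,
        Function.comp_apply, sec_X, res_X_j k S j₀ h, RingHom.id_apply]
  intro f
  exact ⟨sec k S j₀ f, DFunLike.congr_fun key f⟩

/-- A prime containing the `x_i`, `i ∈ S`, is in the image. -/
theorem comap_res_comap_sec (p : Ideal (MvPolynomial (Fin n) k))
    (h : ∀ i ∈ S, MvPolynomial.X i ∈ p) :
    (p.comap (sec k S j₀)).comap (res k S j₀).toRingHom = p := by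
  have key : ((Ideal.Quotient.mk p).comp (sec k S j₀)).comp (res k S j₀).toRingHom =
      Ideal.Quotient.mk p := by
    refine MvPolynomial.ringHom_ext ?_ ?_
    · intro a
      simp only [AlgHom.toRingHom_eq_coe, RingHom.coe_comp, RingHom.coe_coe,
        Function.comp_apply, res_C, sec_C_C]
    · intro i
      simp only [AlgHom.toRingHom_eq_coe, RingHom.coe_comp, RingHom.coe_coe,
        Function.comp_apply]
      by_cases h1 : i ∈ S
      · rw [res_X_mem k S j₀ h1, map_zero, map_zero]
        exact (Ideal.Quotient.eq_zero_iff_mem.2 (h i h1)).symm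
      · by_cases h2 : i = j₀
        · subst h2
          rw [res_X_j k S i h1, sec_X]
        · rw [res_X_idx k S j₀ ⟨i, h1, h2⟩, sec_C_X]
  ext f
  rw [Ideal.mem_comap, Ideal.mem_comap, ← Ideal.Quotient.eq_zero_iff_mem,
    ← Ideal.Quotient.eq_zero_iff_mem]
  exact Eq.congr_left (DFunLike.congr_fun key f)

/-- The linear form `∑ x_i` restricted to the coordinate subspace. -/
noncomputable def beta : MvPolynomial (Idx S j₀) k :=
  ∑ i : Fin n, if h : i ∉ S ∧ i ≠ j₀ then MvPolynomial.X ⟨i, h⟩ else 0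

theorem res_sum (h : j₀ ∉ S) :
    res k S j₀ (∑ i : Fin n, MvPolynomial.X i) = X + C (beta k S j₀) := by
  rw [map_sum, beta, map_sum]
  have h1 : (X : (MvPolynomial (Idx S j₀) k)[X]) = ∑ i : Fin n, if i = j₀ then X else 0 := by
    rw [Finset.sum_ite_eq' Finset.univ j₀, if_pos (Finset.mem_univ _)]
  rw [h1, ← Finset.sum_add_distrib]
  refine Finset.sum_congr rfl fun i _ => ?_
  by_cases h2 : i ∈ S
  · have h3 : i ≠ j₀ := by
      rintro rfl
      exact h h2
    rw [res_X_mem k S j₀ h2, if_neg h3, dif_neg (by simp [h2]), map_zero, zero_add]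
  · by_cases h3 : i = j₀
    · subst h3
      rw [res_X_j k S i h2, if_pos rfl, dif_neg (by simp), map_zero, add_zero]
    · rw [res_X_idx k S j₀ ⟨i, h2, h3⟩, if_neg h3, dif_pos ⟨h2, h3⟩, zero_add]

/-- The product of the coordinates. -/
noncomputable abbrev prodX : MvPolynomial (Fin n) k := ∏ i : Fin n, MvPolynomial.X i

theorem res_prodX (hS : S.Nonempty) : res k S j₀ (prodX k) = 0 := by
  obtain ⟨i, hi⟩ := hS
  rw [map_prod]
  exact Finset.prod_eq_zero (Finset.mem_univ i) (res_X_mem k S j₀ hi)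

/-- `res` on the quotient by `∏ x_i`. -/
noncomputable def resQ (hS : S.Nonempty) :
    MvPolynomial (Fin n) k ⧸ Ideal.span {∏ i : Fin n, (MvPolynomial.X i : MvPolynomial (Fin n) k)} →+*
      (MvPolynomial (Idx S j₀) k)[X] :=
  Ideal.Quotient.lift _ (res k S j₀).toRingHom (by
    intro a ha
    rw [Ideal.mem_span_singleton'] at ha
    obtain ⟨b, rfl⟩ := ha
    change res k S j₀ (b * prodX k) = 0
    rw [map_mul, res_prodX k S j₀ hS, mul_zero])

theorem resQ_mk (hS : S.Nonempty) :
    (resQ k S j₀ hS).comp (Ideal.Quotient.mk _) = (res k S j₀).toRingHom := by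
  ext <;> rfl

theorem resQ_surjective (hS : S.Nonempty) (h : j₀ ∉ S) : Function.Surjective (resQ k S j₀ hS) := by
  intro f
  obtain ⟨g, rfl⟩ := res_surjective k S j₀ h f
  exact ⟨Ideal.Quotient.mk _ g, rfl⟩

theorem mem_range_resQ_iff (hS : S.Nonempty)
    (p : PrimeSpectrum (MvPolynomial (Fin n) k ⧸
      Ideal.span {∏ i : Fin n, (MvPolynomial.X i : MvPolynomial (Fin n) k)})) :
    p ∈ Set.range (PrimeSpectrum.comap (resQ k S j₀ hS)) ↔
      ∀ i ∈ S, Ideal.Quotient.mk _ (MvPolynomial.X i) ∈ p.asIdeal := by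
  constructor
  · rintro ⟨q, rfl⟩ i hi
    change resQ k S j₀ hS (Ideal.Quotient.mk _ (MvPolynomial.X i)) ∈ q.asIdeal
    have : resQ k S j₀ hS (Ideal.Quotient.mk _ (MvPolynomial.X i)) = 0 := res_X_mem k S j₀ hi
    rw [this]
    exact q.asIdeal.zero_mem
  · intro h
    let p' : PrimeSpectrum (MvPolynomial (Fin n) k) := PrimeSpectrum.comap (Ideal.Quotient.mk _) p
    have hp' : (p'.asIdeal.comap (sec k S j₀)).comap (res k S j₀).toRingHom = p'.asIdeal :=
      comap_res_comap_sec k S j₀ p'.asIdeal h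
    refine ⟨PrimeSpectrum.comap (sec k S j₀) p', ?_⟩
    apply PrimeSpectrum.comap_injective_of_surjective (Ideal.Quotient.mk _)
      Ideal.Quotient.mk_surjective
    apply PrimeSpectrum.ext
    exact hp'

/-- Every prime of `k[x]/(∏ x_i)` contains some `x_i`. -/
theorem exists_mem (p : PrimeSpectrum (MvPolynomial (Fin n) k ⧸
      Ideal.span {∏ i : Fin n, (MvPolynomial.X i : MvPolynomial (Fin n) k)})) :
    ∃ i : Fin n, Ideal.Quotient.mk _ (MvPolynomial.X i) ∈ p.asIdeal := by
  have h1 : Ideal.Quotient.mk (Ideal.span {∏ i : Fin n, (MvPolynomial.X i : MvPolynomial (Fin n) k)})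
      (∏ i : Fin n, MvPolynomial.X i) = 0 :=
    Ideal.Quotient.eq_zero_iff_mem.2 (Ideal.subset_span rfl)
  have h2 : Ideal.Quotient.mk (Ideal.span {∏ i : Fin n, (MvPolynomial.X i : MvPolynomial (Fin n) k)})
      (∏ i : Fin n, MvPolynomial.X i) ∈ p.asIdeal := by
    rw [h1]
    exact p.asIdeal.zero_mem
  rw [map_prod, Ideal.IsPrime.prod_mem_iff] at h2
  obtain ⟨i, -, hi⟩ := h2
  exact ⟨i, hi⟩

end Groth.Agent.Sga4h.H928.Coord
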