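import Groth.Agent.Etcore.OpenClosed
import Groth.Agent.Etcore.ShriekUnique
import Groth.Agent.Etcore.Stalks

/-!
# Restriction to closed subsets and Mayer–Vietoris induction

`IsRes F A F'`: `F'` is the restriction `F_A` of `F` to `A` extended by zero (a quotient of `F`).
`main`: for a family of closed subsets `Z i`, `i ∈ T`, a predicate on `F` supported on the union is
deduced from the same predicate for the restriction of `F` to the intersection of all `Z i`, if the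
restrictions to all smaller intersections are "acyclic".
-/

set_option autoImplicit false
universe u v

open CategoryTheory CategoryTheory.Limits AlgebraicGeometry Opposite

namespace Groth.Agent.Sga4h.H928.ClosedMV

open Groth.Agent.Etcore Groth.Agent.Etcore.ShriekUnique Groth.Agent.Etcore.OpenClosed
  Groth.Agent.Etcore.Stalks Groth.Agent.Etcore.ShriekBasic

variable {P : Scheme.{u}}

/-- `F` has zero stalks at the points outside `A`. -/
def SuppIn (F : EtCoh.Ab P) (A : Set P) : Prop :=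
  ∀ (Ω : Type u) [Field Ω] [IsSepClosed Ω] (ξ : Spec (CommRingCat.of Ω) ⟶ P), ξ default ∉ A →
    IsZero ((EtCoh.stalk ξ).obj F)

/-- `F'` is `F` restricted to `A` and extended by zero. -/
def IsRes (F : EtCoh.Ab P) (A : Set P) (F' : EtCoh.Ab P) : Prop :=
  ∃ φ : F ⟶ F', (∀ (Ω : Type u) [Field Ω] [IsSepClosed Ω] (ξ : Spec (CommRingCat.of Ω) ⟶ P),
    ξ default ∈ A → IsIso ((EtCoh.stalk ξ).map φ)) ∧ SuppIn F' A

theorem SuppIn.mono {F : EtCoh.Ab P} {A B : Set P} (h : SuppIn F A) (hAB : A ⊆ B) : SuppIn F B :=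
  fun Ω _ _ ξ hξ => h Ω ξ fun h' => hξ (hAB h')

theorem SuppIn.of_iso {F F' : EtCoh.Ab P} {A : Set P} (h : SuppIn F A) (e : F ≅ F') : SuppIn F' A :=
  fun Ω _ _ ξ hξ => (h Ω ξ hξ).of_iso ((EtCoh.stalk ξ).mapIso e.symm)

theorem IsRes.suppIn {F F' : EtCoh.Ab P} {A : Set P} (h : IsRes F A F') : SuppIn F' A := h.choose_spec.2

theorem IsRes.of_iso {F F' F'' : EtCoh.Ab P} {A : Set P} (h : IsRes F A F') (e : F' ≅ F'') :
    IsRes F A F'' := by
  obtain ⟨φ, h1, h2⟩ := h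
  refine ⟨φ ≫ e.hom, fun Ω _ _ ξ hξ => ?_, h2.of_iso e⟩
  have := h1 Ω ξ hξ
  rw [Functor.map_comp]
  infer_instance

theorem IsRes.of_suppIn {F : EtCoh.Ab P} {A : Set P} (h : SuppIn F A) : IsRes F A F :=
  ⟨𝟙 F, fun Ω _ _ ξ _ => by rw [CategoryTheory.Functor.map_id]; infer_instance, h⟩

theorem IsRes.trans {F F' F'' : EtCoh.Ab P} {A B : Set P} (h : IsRes F A F') (h' : IsRes F' B F'') :
    IsRes F (A ∩ B) F'' := by
  obtain ⟨φ, h1, h2⟩ := h
  obtain ⟨ψ, h3, h4⟩ := h'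
  refine ⟨φ ≫ ψ, fun Ω _ _ ξ hξ => ?_, fun Ω _ _ ξ hξ => ?_⟩
  · have := h1 Ω ξ hξ.1
    have := h3 Ω ξ hξ.2
    rw [Functor.map_comp]
    infer_instance
  · by_cases hB : ξ default ∈ B
    · have hA : ξ default ∉ A := fun hA => hξ ⟨hA, hB⟩
      have := h3 Ω ξ hB
      exact (h2 Ω ξ hA).of_iso (asIso ((EtCoh.stalk ξ).map ψ)).symm
    · exact h4 Ω ξ hB

theorem IsRes.congr_set {F F' : EtCoh.Ab P} {A B C : Set P} (hC : SuppIn F C) (h : IsRes F A F')
    (hAB : ∀ x ∈ C, x ∈ A ↔ x ∈ B) : IsRes F B F' := by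
  obtain ⟨φ, h1, h2⟩ := h
  have key : ∀ (Ω : Type u) [Field Ω] [IsSepClosed Ω] (ξ : Spec (CommRingCat.of Ω) ⟶ P),
      ξ default ∉ C → IsZero ((EtCoh.stalk ξ).obj F') := by
    intro Ω _ _ ξ hξ
    by_cases hA : ξ default ∈ A
    · have := h1 Ω ξ hA
      exact (hC Ω ξ hξ).of_iso (asIso ((EtCoh.stalk ξ).map φ)).symm
    · exact h2 Ω ξ hA
  refine ⟨φ, fun Ω _ _ ξ hξ => ?_, fun Ω _ _ ξ hξ => ?_⟩
  · by_cases hc : ξ default ∈ C
    · exact h1 Ω ξ ((hAB _ hc).2 hξ)
    · exact (hC Ω ξ hc).isIso (key Ω ξ hc) _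
  · by_cases hc : ξ default ∈ C
    · exact h2 Ω ξ fun hA => hξ ((hAB _ hc).1 hA)
    · exact key Ω ξ hc

/-- Restriction to the image of a closed immersion. -/
theorem isRes_push_pull {Z : Scheme.{u}} (z : Z ⟶ P) [IsClosedImmersion z] {U : Scheme.{u}}
    (j : U ⟶ P) [IsOpenImmersion j] (hc : IsCompl (Set.range z) (Set.range j)) (F : EtCoh.Ab P) :
    IsRes F (Set.range z) ((EtCoh.push z).obj ((EtCoh.pull z).obj F)) := by
  refine ⟨(EtCoh.pullPushAdj z).unit.app F, fun Ω _ _ ξ hξ => isIso_stalk_unit z ξ hξ F,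
    fun Ω _ _ ξ hξ => ?_⟩
  refine isZero_stalk_push z j hc.disjoint ξ ?_ _
  exact (hc.codisjoint.top_le (Set.mem_univ (ξ default))).resolve_left hξ

/-- A closed subset is the image of a closed immersion and the complement of an open immersion. -/
theorem exists_closed {A : Set P} (hA : IsClosed A) :
    ∃ (Z : Scheme.{u}) (z : Z ⟶ P) (_ : IsClosedImmersion z) (U : Scheme.{u}) (j : U ⟶ P)
      (_ : IsOpenImmersion j), Set.range z = A ∧ IsCompl (Set.range z) (Set.range j) := by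
  let C : TopologicalSpace.Closeds P := ⟨A, hA⟩
  let O : P.Opens := ⟨Aᶜ, hA.isOpen_compl⟩
  have h1 : Set.range ((Scheme.IdealSheafData.vanishingIdeal C).subschemeι) = A := by
    rw [Scheme.IdealSheafData.range_subschemeι, Scheme.IdealSheafData.coe_support_vanishingIdeal]
    rfl
  have h2 : Set.range O.ι = Aᶜ := by
    rw [Scheme.Opens.range_ι]
    rfl
  refine ⟨_, (Scheme.IdealSheafData.vanishingIdeal C).subschemeι, inferInstance, _, O.ι,
    inferInstance, h1, ?_⟩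
  rw [h1, h2]
  exact isCompl_compl

theorem IsRes.exists {A : Set P} (hA : IsClosed A) (F : EtCoh.Ab P) : ∃ F', IsRes F A F' := by
  obtain ⟨Z, z, _, U, j, _, h1, h2⟩ := exists_closed hA
  exact ⟨_, h1 ▸ isRes_push_pull z j h2 F⟩

theorem IsRes.epi {F F' : EtCoh.Ab P} {A : Set P} {φ : F ⟶ F'}
    (h1 : ∀ (Ω : Type u) [Field Ω] [IsSepClosed Ω] (ξ : Spec (CommRingCat.of Ω) ⟶ P),
      ξ default ∈ A → IsIso ((EtCoh.stalk ξ).map φ)) (h2 : SuppIn F' A) : Epi φ := by
  rw [epi_iff_stalks]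
  intro Ω _ _ ξ
  by_cases hA : ξ default ∈ A
  · have := h1 Ω ξ hA
    exact (ConcreteCategory.bijective_of_isIso _).2
  · have := AddCommGrpCat.subsingleton_of_isZero (h2 Ω ξ hA)
    intro y
    exact ⟨0, this.elim _ _⟩

theorem isZero_of_suppIn_empty {F : EtCoh.Ab P} (h : SuppIn F ∅) : IsZero F := by
  refine isZero_of_stalks F fun x => ?_
  obtain ⟨Ω, _, _, ξ, hξ⟩ := exists_geom x
  exact ⟨Ω, inferInstance, inferInstance, ξ, hξ, h Ω ξ (Set.notMem_empty _)⟩

theorem IsRes.exists_hom {F F' F'' : EtCoh.Ab P} {A : Set P} {φ : F ⟶ F'} {ψ : F ⟶ F''}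
    (h1 : ∀ (Ω : Type u) [Field Ω] [IsSepClosed Ω] (ξ : Spec (CommRingCat.of Ω) ⟶ P),
      ξ default ∈ A → IsIso ((EtCoh.stalk ξ).map φ)) (h2 : SuppIn F' A) (h4 : SuppIn F'' A) :
    ∃ θ : F' ⟶ F'', φ ≫ θ = ψ := by
  have hepi : Epi φ := IsRes.epi h1 h2
  let i : kernel φ ⟶ F := kernel.ι φ
  have h0 : i ≫ ψ = 0 := by
    have hz : IsZero (Limits.image (i ≫ ψ)) := by
      apply isZero_of_suppIn_empty
      intro Ω _ _ ξ _
      by_cases hA : ξ default ∈ A
      · have h5 : IsZero ((EtCoh.stalk ξ).obj (kernel φ)) := by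
          have := h1 Ω ξ hA
          have hm : Mono ((EtCoh.stalk ξ).map i) := inferInstance
          have h6 : (EtCoh.stalk ξ).map i ≫ (EtCoh.stalk ξ).map φ = 0 := by
            rw [← Functor.map_comp, kernel.condition, Functor.map_zero]
          have h7 : (EtCoh.stalk ξ).map i = 0 := by
            rw [← cancel_mono ((EtCoh.stalk ξ).map φ), h6, zero_comp]
          exact IsZero.of_mono_eq_zero _ h7
        have h8 : Epi ((EtCoh.stalk ξ).map (factorThruImage (i ≫ ψ))) := inferInstance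
        exact h5.of_epi ((EtCoh.stalk ξ).map (factorThruImage (i ≫ ψ)))
      · have h5 := h4 Ω ξ hA
        have h8 : Mono ((EtCoh.stalk ξ).map (Limits.image.ι (i ≫ ψ))) := inferInstance
        exact h5.of_mono ((EtCoh.stalk ξ).map (Limits.image.ι (i ≫ ψ)))
    rw [← Limits.image.fac (i ≫ ψ), hz.eq_of_tgt (factorThruImage (i ≫ ψ)) 0, zero_comp]
  exact ⟨Abelian.epiDesc φ ψ h0, Abelian.comp_epiDesc _ _ _⟩

theorem IsRes.unique {F F' F'' : EtCoh.Ab P} {A : Set P} (h : IsRes F A F') (h' : IsRes F A F'') :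
    Nonempty (F' ≅ F'') := by
  obtain ⟨φ, h1, h2⟩ := h
  obtain ⟨ψ, h3, h4⟩ := h'
  obtain ⟨θ, hθ⟩ := IsRes.exists_hom (ψ := ψ) h1 h2 h4
  obtain ⟨η, hη⟩ := IsRes.exists_hom (ψ := φ) h3 h4 h2
  have e1 : Epi φ := IsRes.epi h1 h2
  have e2 : Epi ψ := IsRes.epi h3 h4
  refine ⟨⟨θ, η, ?_, ?_⟩⟩
  · rw [← cancel_epi φ, ← Category.assoc, hθ, hη, Category.comp_id]
  · rw [← cancel_epi ψ, ← Category.assoc, hη, hθ, Category.comp_id]

/-- A system of predicates suitable for the Mayer–Vietoris induction: `Ac` for "acyclic". -/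
structure PredSys (Ac : EtCoh.Ab P → Prop) (Pr : ℕ → EtCoh.Ab P → Prop) : Prop where
  ac_iso : ∀ {F F' : EtCoh.Ab P}, (F ≅ F') → Ac F → Ac F'
  iso : ∀ {q : ℕ} {F F' : EtCoh.Ab P}, (F ≅ F') → Pr q F → Pr q F'
  ac_mid : ∀ {S : ShortComplex (EtCoh.Ab P)}, S.ShortExact → Ac S.X₃ → Ac S.X₁ → Ac S.X₂
  ac_left : ∀ {S : ShortComplex (EtCoh.Ab P)}, S.ShortExact → Ac S.X₂ → Ac S.X₃ → Ac S.X₁
  mid : ∀ {q : ℕ} {S : ShortComplex (EtCoh.Ab P)}, S.ShortExact → Ac S.X₃ → Pr q S.X₁ → Pr q S.X₂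
  left : ∀ {q : ℕ} {S : ShortComplex (EtCoh.Ab P)}, S.ShortExact → Ac S.X₂ → Pr q S.X₃ →
    Pr (q + 1) S.X₁

theorem PredSys.ac {Ac : EtCoh.Ab P → Prop} {Pr : ℕ → EtCoh.Ab P → Prop} (h : PredSys Ac Pr) :
    PredSys Ac (fun _ => Ac) where
  ac_iso := h.ac_iso
  iso := h.ac_iso
  ac_mid := h.ac_mid
  ac_left := h.ac_left
  mid := h.ac_mid
  left := h.ac_left

/-- The Mayer–Vietoris step. -/
theorem PredSys.step {Ac : EtCoh.Ab P → Prop} {Pr : ℕ → EtCoh.Ab P → Prop} (h : PredSys Ac Pr)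
    {Z₁ Z₂ : Set P} (hZ₁ : IsClosed Z₁) {F F₁ F₂ F₁₂ : EtCoh.Ab P} (hF : SuppIn F (Z₁ ∪ Z₂))
    (h₁ : IsRes F Z₁ F₁) (a₁ : Ac F₁) (h₂ : IsRes F Z₂ F₂) (a₂ : Ac F₂) (h₁₂ : IsRes F₂ Z₁ F₁₂) {q : ℕ}
    (hP : Pr q F₁₂) : Pr (q + 1) F := by
  obtain ⟨Z, z, _, U, j, _, e1, e2⟩ := exists_closed hZ₁
  obtain ⟨i1⟩ := h₁.unique (e1 ▸ isRes_push_pull z j e2 F)
  obtain ⟨i2⟩ := h₁₂.unique (e1 ▸ isRes_push_pull z j e2 F₂)
  obtain ⟨φ, h3, h4⟩ := h₂
  have s1 := OpenClosed.shortExact z j e2 F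
  have s2 := OpenClosed.shortExact z j e2 F₂
  have hφ : IsIso ((EtShriek.restrAlong j).map φ) := by
    rw [isIso_iff_stalks]
    intro Ω _ _ u
    rw [← isIso_stalk_map_iff]
    have hu : (u ≫ j) default ∉ Z₁ := by
      intro hu
      rw [← e1] at hu
      exact Set.disjoint_left.1 e2.disjoint hu ⟨u default, rfl⟩
    by_cases h5 : (u ≫ j) default ∈ Z₂
    · exact h3 Ω _ h5
    · refine (hF Ω (u ≫ j) ?_).isIso (h4 Ω (u ≫ j) h5) _
      rintro (h6 | h6)
      · exact hu h6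
      · exact h5 h6
  have e3 : (EtShriek.extZero j).obj ((EtShriek.restrAlong j).obj F) ≅
      (EtShriek.extZero j).obj ((EtShriek.restrAlong j).obj F₂) :=
    (EtShriek.extZero j).mapIso (asIso ((EtShriek.restrAlong j).map φ))
  have p1 := h.left s2 a₂ (h.iso i2 hP)
  exact h.mid s1 (h.ac_iso i1 a₁) (h.iso e3.symm p1)

variable {ι : Type v} (Z : ι → Set P)

theorem isClosed_biInter_finset {ι : Type v} (Z : ι → Set P) (hZ : ∀ i, IsClosed (Z i)) (T : Finset ι) :
    IsClosed (⋂ i ∈ T, Z i) := isClosed_biInter fun i _ => hZ i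

/-- The Mayer–Vietoris induction. -/
theorem main (hZ : ∀ i, IsClosed (Z i)) {T : Finset ι} (hT : T.Nonempty) :
    ∀ {Ac : EtCoh.Ab P → Prop} {Pr : ℕ → EtCoh.Ab P → Prop} (_ : PredSys Ac Pr)
      (F : EtCoh.Ab P) (_ : SuppIn F (⋃ i ∈ T, Z i))
      (_ : ∀ S ⊆ T, S.Nonempty → S ≠ T → ∀ F', IsRes F (⋂ i ∈ S, Z i) F' → Ac F')
      (_ : ∀ F', IsRes F (⋂ i ∈ T, Z i) F' → Pr 0 F'), Pr (T.card - 1) F := by
  classical
  induction hT using Finset.Nonempty.cons_induction with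
  | singleton a =>
    intro Ac Pr hP F hF _ h2
    have := h2 F (IsRes.of_suppIn (by simpa using hF))
    simpa using this
  | cons a T ha hT ih =>
    intro Ac Pr hP F hF h1 h2
    have hcl : IsClosed (⋃ i ∈ T, Z i) := T.finite_toSet.isClosed_biUnion fun i _ => hZ i
    obtain ⟨F₁, hF₁⟩ := IsRes.exists hcl F
    obtain ⟨F₂, hF₂⟩ := IsRes.exists (hZ a) F
    obtain ⟨F₁₂, hF₁₂⟩ := IsRes.exists hcl F₂
    have hsub : T ⊆ Finset.cons a T ha := Finset.subset_cons ha
    have a₁ : Ac F₁ := by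
      refine ih hP.ac F₁ hF₁.suppIn (fun S hS hS' _ F' hF' => ?_) (fun F' hF' => ?_)
      · refine h1 S (hS.trans hsub) hS' ?_ F' ?_
        · rintro rfl
          exact ha (hS (Finset.mem_cons_self a T))
        · have h3 := hF₁.trans hF'
          rwa [Set.inter_eq_self_of_subset_right] at h3
          obtain ⟨i, hi⟩ := hS'
          exact (Set.iInter₂_subset i hi).trans (Set.subset_biUnion_of_mem (hS hi))
      · refine h1 T hsub hT ?_ F' ?_
        · intro h
          exact ha (h ▸ Finset.mem_cons_self a T)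
        · have h3 := hF₁.trans hF'
          rwa [Set.inter_eq_self_of_subset_right] at h3
          obtain ⟨i, hi⟩ := hT
          exact (Set.iInter₂_subset i hi).trans (Set.subset_biUnion_of_mem hi)
    have a₂ : Ac F₂ := by
      refine h1 {a} (by simp) (by simp) ?_ F₂ (by simpa using hF₂)
      intro h
      obtain ⟨i, hi⟩ := hT
      have : i ∈ ({a} : Finset ι) := h ▸ hsub hi
      rw [Finset.mem_singleton] at this
      exact ha (this ▸ hi)
    have key : Pr (T.card - 1) F₁₂ := by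
      refine ih hP F₁₂ hF₁₂.suppIn (fun S hS hS' hne F' hF' => ?_) (fun F' hF' => ?_)
      · have hSa : Finset.cons a S (fun h => ha (hS h)) ⊆ Finset.cons a T ha :=
          Finset.cons_subset_cons.2 hS
        refine h1 (Finset.cons a S (fun h => ha (hS h))) hSa (Finset.cons_nonempty _) ?_ F' ?_
        · intro h
          apply hne
          apply Finset.Subset.antisymm hS
          intro i hi
          have h4 : i ∈ Finset.cons a S (fun h => ha (hS h)) := h ▸ hsub hi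
          rcases Finset.mem_cons.1 h4 with rfl | h4
          · exact (ha hi).elim
          · exact h4
        · have h3 := (hF₂.trans hF₁₂).trans hF'
          convert h3 using 1
          ext x
          simp only [Finset.mem_cons, Set.mem_iInter, Set.mem_inter_iff, Set.mem_iUnion]
          constructor
          · intro hx
            refine ⟨⟨hx a (Or.inl rfl), ?_⟩, fun i hi => hx i (Or.inr hi)⟩
            obtain ⟨i, hi⟩ := hS'
            exact ⟨i, hS hi, hx i (Or.inr hi)⟩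
          · rintro ⟨⟨h5, _⟩, h6⟩ i (rfl | hi)
            · exact h5
            · exact h6 i hi
      · refine h2 F' ?_
        have h3 := (hF₂.trans hF₁₂).trans hF'
        convert h3 using 1
        ext x
        simp only [Finset.mem_cons, Set.mem_iInter, Set.mem_inter_iff, Set.mem_iUnion]
        constructor
        · intro hx
          refine ⟨⟨hx a (Or.inl rfl), ?_⟩, fun i hi => hx i (Or.inr hi)⟩
          obtain ⟨i, hi⟩ := hT
          exact ⟨i, hi, hx i (Or.inr hi)⟩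
        · rintro ⟨⟨h5, _⟩, h6⟩ i (rfl | hi)
          · exact h5
          · exact h6 i hi
    have hF' : SuppIn F ((⋃ i ∈ T, Z i) ∪ Z a) := by
      refine hF.mono ?_
      intro x hx
      simp only [Finset.mem_cons, Set.mem_iUnion, Set.mem_union] at hx ⊢
      obtain ⟨i, (rfl | hi), hx⟩ := hx
      · exact Or.inr hx
      · exact Or.inl ⟨i, hi, hx⟩
    have := hP.step hcl hF' hF₁ a₁ hF₂ a₂ hF₁₂ key
    have hc : (Finset.cons a T ha).card - 1 = T.card - 1 + 1 := by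
      rw [Finset.card_cons]
      have := hT.card_pos
      omega
    rw [hc]
    exact this

end Groth.Agent.Sga4h.H928.ClosedMV
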