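import Groth.Agent.Sga4h.H928.Triv
import Groth.Agent.Sga4h.H928.ClosedMV

/-!
# The Mayer–Vietoris predicate systems for relative étale cohomology

For `t : W ⟶ P`: `Acyc t F` (`H^q(W, t⁻¹ F) = 0` for all `q`), with `Pr q F` = "the endomorphism `γ` of
`W` over `P` acts trivially on `H^q(W, t⁻¹ F)`" or "`H^i(W, t⁻¹ F) = 0` for `i ≠ q` and
`H^q(W, t⁻¹ F)` has `N` elements".
-/

set_option autoImplicit false

open CategoryTheory CategoryTheory.Limits AlgebraicGeometry Opposite
open CategoryTheory.Abelian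

universe u

namespace Groth.Agent.Sga4h.H928.Sys

open Groth.Agent.Etrest.HPost Groth.Agent.Sga4h.H928.Triv Groth.Agent.Sga4h.H928.ClosedMV
open Groth.Agent.EtpbcB.HRel

variable {W P : Scheme.{u}}

/-- All cohomology groups of `t⁻¹ F` vanish. -/
def Acyc (t : W ⟶ P) (F : EtCoh.Ab P) : Prop :=
  ∀ q : ℕ, Subsingleton (EtCoh.H W ((EtCoh.pull t).obj F) q)

/-- `H^i(W, t⁻¹ F)` vanishes for `i ≠ q` and has `N` elements for `i = q`. -/
def CardAt (t : W ⟶ P) (N q : ℕ) (F : EtCoh.Ab P) : Prop :=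
  (∀ i : ℕ, i ≠ q → Subsingleton (EtCoh.H W ((EtCoh.pull t).obj F) i)) ∧
    Nat.card (EtCoh.H W ((EtCoh.pull t).obj F) q) = N

section LES

variable {S : ShortComplex (EtCoh.Ab W)} (hS : S.ShortExact)

include hS in
theorem post_surjective (q : ℕ) (h : Subsingleton (EtCoh.H W S.X₃ q)) :
    Function.Surjective (post S.f q) := fun x =>
  (exact_fg hS q x).1 (h.elim _ _)

include hS in
theorem post_injective_zero : Function.Injective (post S.f 0) := by
  have := hS.mono_f
  exact post_injective S.f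

include hS in
theorem post_injective_succ (q : ℕ) (h : Subsingleton (EtCoh.H W S.X₃ q)) :
    Function.Injective (post S.f (q + 1)) := by
  rw [injective_iff_map_eq_zero]
  intro x hx
  obtain ⟨y, rfl⟩ := (exact_df hS q x).1 hx
  rw [h.elim y 0, map_zero]

include hS in
theorem post_injective_of_forall (q : ℕ) (h : ∀ q, Subsingleton (EtCoh.H W S.X₃ q)) :
    Function.Injective (post S.f q) := by
  cases q with
  | zero => exact post_injective_zero hS
  | succ q => exact post_injective_succ hS q (h q)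

theorem conn_surjective (q : ℕ) (h : Subsingleton (EtCoh.H W S.X₂ (q + 1))) :
    Function.Surjective (conn hS q) := fun x =>
  (exact_df hS q x).1 (h.elim _ _)

theorem conn_injective (q : ℕ) (h : Subsingleton (EtCoh.H W S.X₂ q)) :
    Function.Injective (conn hS q) := by
  rw [injective_iff_map_eq_zero]
  intro x hx
  obtain ⟨y, rfl⟩ := (exact_gd hS q x).1 hx
  rw [h.elim y 0, map_zero]

include hS in
theorem subsingleton_mid (q : ℕ) (h1 : Subsingleton (EtCoh.H W S.X₁ q))
    (h3 : Subsingleton (EtCoh.H W S.X₃ q)) : Subsingleton (EtCoh.H W S.X₂ q) :=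
  (post_surjective hS q h3).subsingleton

include hS in
theorem subsingleton_left (q : ℕ) (h2 : ∀ q, Subsingleton (EtCoh.H W S.X₂ q))
    (h3 : ∀ q, Subsingleton (EtCoh.H W S.X₃ q)) : Subsingleton (EtCoh.H W S.X₁ q) :=
  (post_injective_of_forall hS q h3).subsingleton

end LES

theorem subsingleton_of_iso {F G : EtCoh.Ab W} (e : F ≅ G) (q : ℕ)
    (h : Subsingleton (EtCoh.H W F q)) : Subsingleton (EtCoh.H W G q) :=
  (post_bijective e.hom q).2.subsingleton

theorem Acyc.of_iso {t : W ⟶ P} {F G : EtCoh.Ab P} (e : F ≅ G) (h : Acyc t F) : Acyc t G :=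
  fun q => subsingleton_of_iso ((EtCoh.pull t).mapIso e) q (h q)

theorem acyc_mid (t : W ⟶ P) {S : ShortComplex (EtCoh.Ab P)} (hS : S.ShortExact) (h3 : Acyc t S.X₃)
    (h1 : Acyc t S.X₁) : Acyc t S.X₂ := fun q =>
  subsingleton_mid (hS.map_of_exact (EtCoh.pull t)) q (h1 q) (h3 q)

theorem acyc_left (t : W ⟶ P) {S : ShortComplex (EtCoh.Ab P)} (hS : S.ShortExact) (h2 : Acyc t S.X₂)
    (h3 : Acyc t S.X₃) : Acyc t S.X₁ := fun q =>
  subsingleton_left (hS.map_of_exact (EtCoh.pull t)) q h2 h3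

/-- The system for "`γ` acts trivially". -/
theorem predSys_triv (γ : W ⟶ W) (t : W ⟶ P) (w : γ ≫ t = t) :
    PredSys (Acyc t) (fun q F => ActsTriv γ t w F q) where
  ac_iso := Acyc.of_iso
  iso e h := h.of_iso e
  ac_mid hS h3 h1 := acyc_mid t hS h3 h1
  ac_left hS h2 h3 := acyc_left t hS h2 h3
  mid {q S} hS h3 h1 := h1.of_surjective S.f
    (post_surjective (hS.map_of_exact (EtCoh.pull t)) q (h3 q))
  left {q S} hS h2 h3 := h3.conn hS (conn_surjective (hS.map_of_exact (EtCoh.pull t)) q (h2 (q + 1)))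

theorem CardAt.of_iso {t : W ⟶ P} {N q : ℕ} {F G : EtCoh.Ab P} (e : F ≅ G) (h : CardAt t N q F) :
    CardAt t N q G :=
  ⟨fun i hi => subsingleton_of_iso ((EtCoh.pull t).mapIso e) i (h.1 i hi),
    (Nat.card_congr (Equiv.ofBijective _ (post_bijective ((EtCoh.pull t).map e.hom) q))).symm.trans
      h.2⟩

/-- The system for "cohomology with `N` elements, concentrated in degree `q`". -/
theorem predSys_card (t : W ⟶ P) (N : ℕ) : PredSys (Acyc t) (fun q F => CardAt t N q F) where
  ac_iso := Acyc.of_iso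
  iso e h := h.of_iso e
  ac_mid hS h3 h1 := acyc_mid t hS h3 h1
  ac_left hS h2 h3 := acyc_left t hS h2 h3
  mid {q S} hS h3 h1 := by
    have hS' := hS.map_of_exact (EtCoh.pull t)
    refine ⟨fun i hi => subsingleton_mid hS' i (h1.1 i hi) (h3 i), ?_⟩
    exact (Nat.card_congr (Equiv.ofBijective _ ⟨post_injective_of_forall hS' q h3,
      post_surjective hS' q (h3 q)⟩)).symm.trans h1.2
  left {q S} hS h2 h3 := by
    have hS' := hS.map_of_exact (EtCoh.pull t)
    refine ⟨fun i hi => ?_, ?_⟩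
    · cases i with
      | zero =>
        have h4 : Subsingleton (EtCoh.H W (S.map (EtCoh.pull t)).X₂ 0) := h2 0
        exact (post_injective_zero hS').subsingleton
      | succ i =>
        have h4 : Subsingleton (EtCoh.H W (S.map (EtCoh.pull t)).X₃ i) :=
          h3.1 i fun h => hi (by rw [h])
        exact (conn_surjective hS' i (h2 (i + 1))).subsingleton
    · exact (Nat.card_congr (Equiv.ofBijective _ ⟨conn_injective hS' q (h2 q),
        conn_surjective hS' q (h2 (q + 1))⟩)).symm.trans h3.2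

end Groth.Agent.Sga4h.H928.Sys
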