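import Groth.Agent.Sga4h.H928.ASDeck

/-!
# Connectedness of the Artin–Schreier covers `z^q - z = ∑ x_i` of affine space
-/

set_option autoImplicit false
universe u

open CategoryTheory CategoryTheory.Limits AlgebraicGeometry Opposite Polynomial

namespace Groth.Agent.Sga4h.H928.ASConn

open Groth.Agent.Sga4h.H582.ASCov Groth.Agent.Sga4h.H928.ASDeck

/-- If `g = x^q - x` up to an endomorphism `α` of the domain `R` which becomes the structure map in the
Artin–Schreier algebra, then the Artin–Schreier cover is connected. -/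
theorem connectedSpace {R : Type u} [CommRing R] [IsDomain R] (q : ℕ) (g : R) (α : R →+* R) (x : R)
    (hx : x ^ q - x = α g) (ψ : R →+* LangSh.ASAlg R q g) (h1 : ψ.comp α = algebraMap R _)
    (h2 : ψ x = AdjoinRoot.root _) : ConnectedSpace (Spec (CommRingCat.of (LangSh.ASAlg R q g))) := by
  let φ : LangSh.ASAlg R q g →+* R := lift q g α x hx
  have h3 : ψ.comp φ = RingHom.id _ := by
    apply Sga4h.H582.ASCov.hom_ext
    · rw [RingHom.comp_assoc, lift_comp, h1]
      rfl
    · rw [RingHom.comp_apply, lift_root, h2]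
      rfl
  have h4 : Spec.map (CommRingCat.ofHom ψ) ≫ Spec.map (CommRingCat.ofHom φ) = 𝟙 _ := by
    rw [← Spec.map_comp, ← CommRingCat.ofHom_comp, h3]
    exact Spec.map_id _
  have h5 : ConnectedSpace (Spec (CommRingCat.of R)) := inferInstance
  have h6 : Function.Surjective (Spec.map (CommRingCat.ofHom φ)) := fun y =>
    ⟨Spec.map (CommRingCat.ofHom ψ) y, by rw [← Scheme.Hom.comp_apply, h4]; rfl⟩
  exact h6.connectedSpace (Spec.map (CommRingCat.ofHom φ)).continuous

section MvPoly

variable (n : ℕ) (k : Type u) [Field k] (q : ℕ) (i₀ : Fin n)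

/-- The sum of the other coordinates. -/
noncomputable def rest : MvPolynomial (Fin n) k := ∑ i ∈ Finset.univ.erase i₀, MvPolynomial.X i

theorem sum_eq : (∑ i : Fin n, MvPolynomial.X i : MvPolynomial (Fin n) k) =
    MvPolynomial.X i₀ + rest n k i₀ :=
  (Finset.add_sum_erase Finset.univ _ (Finset.mem_univ i₀)).symm

/-- `x_{i₀} ↦ x_{i₀}^q - x_{i₀} - ∑_{i ≠ i₀} x_i`. -/
noncomputable def alpha : MvPolynomial (Fin n) k →ₐ[k] MvPolynomial (Fin n) k :=
  MvPolynomial.aeval fun i => if i = i₀ then
    MvPolynomial.X i₀ ^ q - MvPolynomial.X i₀ - rest n k i₀ else MvPolynomial.X i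

theorem alpha_self : alpha n k q i₀ (MvPolynomial.X i₀) =
    MvPolynomial.X i₀ ^ q - MvPolynomial.X i₀ - rest n k i₀ := by
  rw [alpha, MvPolynomial.aeval_X, if_pos rfl]

theorem alpha_ne {i : Fin n} (h : i ≠ i₀) : alpha n k q i₀ (MvPolynomial.X i) = MvPolynomial.X i := by
  rw [alpha, MvPolynomial.aeval_X, if_neg h]

theorem alpha_rest : alpha n k q i₀ (rest n k i₀) = rest n k i₀ := by
  rw [rest, map_sum]
  exact Finset.sum_congr rfl fun i hi => alpha_ne n k q i₀ (Finset.ne_of_mem_erase hi)

/-- `x_{i₀} ↦ z`. -/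
noncomputable def psi : MvPolynomial (Fin n) k →ₐ[k]
    LangSh.ASAlg (MvPolynomial (Fin n) k) q (∑ i : Fin n, MvPolynomial.X i) :=
  MvPolynomial.aeval fun i => if i = i₀ then AdjoinRoot.root _ else
    algebraMap (MvPolynomial (Fin n) k) _ (MvPolynomial.X i)

theorem psi_self : psi n k q i₀ (MvPolynomial.X i₀) = AdjoinRoot.root _ := by
  rw [psi, MvPolynomial.aeval_X, if_pos rfl]

theorem psi_ne {i : Fin n} (h : i ≠ i₀) : psi n k q i₀ (MvPolynomial.X i) =
    algebraMap (MvPolynomial (Fin n) k) _ (MvPolynomial.X i) := by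
  rw [psi, MvPolynomial.aeval_X, if_neg h]

theorem psi_rest : psi n k q i₀ (rest n k i₀) =
    algebraMap (MvPolynomial (Fin n) k) _ (rest n k i₀) := by
  unfold rest
  exact (map_sum (psi n k q i₀) _ _).trans ((Finset.sum_congr rfl fun i hi =>
    psi_ne n k q i₀ (Finset.ne_of_mem_erase hi)).trans (map_sum (algebraMap _ _) _ _).symm)

include i₀ in
/-- The cover `z^q - z = ∑ x_i` is connected. -/
theorem connectedSpace_mv : ConnectedSpace (Spec (CommRingCat.of
    (LangSh.ASAlg (MvPolynomial (Fin n) k) q (∑ i : Fin n, MvPolynomial.X i)))) := by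
  refine connectedSpace q _ (alpha n k q i₀).toRingHom (MvPolynomial.X i₀) ?_
    (psi n k q i₀).toRingHom ?_ (psi_self n k q i₀)
  · change _ = alpha n k q i₀ _
    rw [sum_eq n k i₀, map_add, alpha_self, alpha_rest]
    ring
  · apply MvPolynomial.ringHom_ext
    · intro a
      change psi n k q i₀ (alpha n k q i₀ (MvPolynomial.C a)) = _
      have h1 : alpha n k q i₀ (MvPolynomial.C a) = MvPolynomial.C a := (alpha n k q i₀).commutes a
      rw [h1]
      exact (psi n k q i₀).commutes a
    · intro i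
      change psi n k q i₀ (alpha n k q i₀ (MvPolynomial.X i)) = _
      by_cases h : i = i₀
      · subst h
        rw [alpha_self, map_sub, map_sub, map_pow, psi_self, psi_rest, root_eq, ← map_sub]
        congr 1
        rw [sum_eq n k i, add_sub_cancel_right]
      · rw [alpha_ne n k q i₀ h, psi_ne n k q i₀ h]

end MvPoly

end Groth.Agent.Sga4h.H928.ASConn
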