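import Groth.Agent.Sga4h.H582.ASCov
import Groth.Agent.Sga4h.H917.KumSch
import Groth.Agent.Sga4h.H918.FrobFix

/-!
# Deck transformations of the Artin–Schreier covers over finite fields

For `κ : k → R`, `k` a finite field with `q` elements: the automorphisms `z ↦ z + a` of the cover
`z^q - z = g` of `Spec R`; they are locally transitive on sections.
-/

set_option autoImplicit false
universe u

open CategoryTheory CategoryTheory.Limits AlgebraicGeometry Opposite Polynomial

namespace Groth.Agent.Sga4h.H928.ASDeck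

open Groth.Agent.Sga4h.H582.ASCov Groth.Agent.Sga4h.H917.KumSch

variable {k : Type u} [Field k] [Fintype k] {R : Type u} [CommRing R] (κ : k →+* R) (g : R)

/-- The Artin–Schreier algebra `R[z]/(z^q - z - g)`. -/
abbrev AS (k : Type u) [Field k] [Fintype k] {R : Type u} [CommRing R] (g : R) : Type u :=
  LangSh.ASAlg R (Fintype.card k) g

/-- `z ↦ z + a`. -/
noncomputable def deckHom (a : k) : AS k g →+* AS k g :=
  lift (Fintype.card k) g (algebraMap R (AS k g))
    (AdjoinRoot.root _ + algebraMap R (AS k g) (κ a)) (by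
      have h1 := Sga4h.H918.FrobFix.add_pow_card ((algebraMap R (AS k g)).comp κ)
        (AdjoinRoot.root _) (algebraMap R (AS k g) (κ a))
      have h2 : (algebraMap R (AS k g) (κ a)) ^ Fintype.card k = algebraMap R (AS k g) (κ a) := by
        rw [← map_pow, ← map_pow, FiniteField.pow_card]
      rw [h1, h2, add_sub_add_right_eq_sub]
      exact root_eq _ _)

/-- The deck transformation. -/
noncomputable def deck (a : k) :
    Spec (CommRingCat.of (AS k g)) ⟶ Spec (CommRingCat.of (AS k g)) :=
  Spec.map (CommRingCat.ofHom (deckHom κ g a))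

theorem deck_cov (a : k) : deck κ g a ≫ cov (Fintype.card k) g = cov (Fintype.card k) g := by
  rw [deck, cov, LangSh.cover, ← Spec.map_comp, ← CommRingCat.ofHom_comp, deckHom, lift_comp]

/-- The deck transformations are compatible with base change. -/
theorem deck_covMap {S : Type u} [CommRing S] (f : R →+* S) (g' : S) (h : f g = g') (a : k) :
    deck (f.comp κ) g' a ≫ covMap (Fintype.card k) g f g' h =
      covMap (Fintype.card k) g f g' h ≫ deck κ g a := by
  rw [deck, deck, covMap, ← Spec.map_comp, ← Spec.map_comp, ← CommRingCat.ofHom_comp,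
    ← CommRingCat.ofHom_comp]
  congr 2
  apply Sga4h.H582.ASCov.hom_ext
  · rw [RingHom.comp_assoc, RingHom.comp_assoc, mapHom_comp, deckHom, deckHom, lift_comp,
      ← RingHom.comp_assoc, lift_comp, mapHom_comp]
  · change deckHom (f.comp κ) g' a (mapHom (Fintype.card k) g f g' h (AdjoinRoot.root _)) =
      mapHom (Fintype.card k) g f g' h (deckHom κ g a (AdjoinRoot.root _))
    have h1 : mapHom (Fintype.card k) g f g' h (AdjoinRoot.root _) = AdjoinRoot.root _ :=
      lift_root _ _ _ _ _
    have h2 : deckHom κ g a (AdjoinRoot.root _) =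
        AdjoinRoot.root _ + algebraMap R (AS k g) (κ a) := lift_root _ _ _ _ _
    have h3 : deckHom (f.comp κ) g' a (AdjoinRoot.root _) =
        AdjoinRoot.root _ + algebraMap S (AS k g') ((f.comp κ) a) := lift_root _ _ _ _ _
    have h4 : mapHom (Fintype.card k) g f g' h (algebraMap R (AS k g) (κ a)) =
        algebraMap S (AS k g') (f (κ a)) :=
      DFunLike.congr_fun (mapHom_comp (Fintype.card k) g f g' h) (κ a)
    rw [h1, h2, h3, map_add, h1, h4]
    rfl

theorem two_le (k : Type u) [Field k] [Fintype k] : 2 ≤ Fintype.card k := Fintype.one_lt_card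

include κ in
theorem cast_eq_zero : ((Fintype.card k : ℕ) : R) = 0 := by
  have h1 : ((Fintype.card k : ℕ) : k) = 0 := FiniteField.cast_card_eq_zero k
  rw [← map_natCast κ, h1, map_zero]

include κ in
theorem etale : Etale (cov (Fintype.card k) g) := etale_cov _ _ (two_le k) (cast_eq_zero κ)

/-- The cover as an object of the small étale site. -/
noncomputable abbrev VE (h : Etale (cov (Fintype.card k) g)) : (Spec (CommRingCat.of R)).Etale :=
  Scheme.Etale.mk (cov (Fintype.card k) g)

/-- The deck transformation in the small étale site. -/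
noncomputable def sig (h : Etale (cov (Fintype.card k) g)) (a : k) : VE g h ⟶ VE g h :=
  MorphismProperty.Over.homMk (deck κ g a) (deck_cov κ g a) trivial

theorem sig_left (h : Etale (cov (Fintype.card k) g)) (a : k) : (sig κ g h a).left = deck κ g a := rfl

theorem val_deck {Z : Scheme.{u}} (c : Z ⟶ Spec (CommRingCat.of (AS k g))) (a : k) :
    val (c ≫ deck κ g a) (AdjoinRoot.root _) =
      val c (AdjoinRoot.root _) + val (c ≫ cov (Fintype.card k) g) (κ a) := by
  rw [deck, val_spec, cov, LangSh.cover, val_spec, ← map_add]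
  exact congrArg (val c) (lift_root _ _ _ _ _)

theorem hom_ext' {Z : Scheme.{u}} {c c' : Z ⟶ Spec (CommRingCat.of (AS k g))}
    (h1 : c ≫ cov (Fintype.card k) g = c' ≫ cov (Fintype.card k) g)
    (h2 : val c (AdjoinRoot.root _) = val c' (AdjoinRoot.root _)) : c = c' := by
  apply val_ext
  apply Sga4h.H582.ASCov.hom_ext
  · ext r
    have h3 := congrArg (fun m => val m r) h1
    simp only [cov, LangSh.cover, val_spec] at h3
    exact h3
  · exact h2

theorem val_root {Z : Scheme.{u}} (c : Z ⟶ Spec (CommRingCat.of (AS k g))) :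
    val c (AdjoinRoot.root _) ^ Fintype.card k - val c (AdjoinRoot.root _) =
      val (c ≫ cov (Fintype.card k) g) g := by
  rw [cov, LangSh.cover, val_spec, ← map_pow, ← map_sub, root_eq]

/-- Two sections of the cover differ locally by a deck transformation. -/
theorem exists_deck (T : Scheme.{u}) (c c' : T ⟶ Spec (CommRingCat.of (AS k g)))
    (hw : c ≫ cov (Fintype.card k) g = c' ≫ cov (Fintype.card k) g) (t : T) :
    ∃ (a : k) (U : T.Opens) (_ : t ∈ U), U.ι ≫ c' = U.ι ≫ c ≫ deck κ g a := by
  let ρ : k →+* Γ(T, ⊤) := (val (c ≫ cov (Fintype.card k) g)).comp κ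
  obtain ⟨x, hx⟩ : ∃ x, x = val c (AdjoinRoot.root _) := ⟨_, rfl⟩
  obtain ⟨y, hy⟩ : ∃ y, y = val c' (AdjoinRoot.root _) := ⟨_, rfl⟩
  have h1 : (y - x) ^ Fintype.card k = y - x := by
    have h2 := val_root g c
    have h3 := val_root g c'
    rw [← hw, ← h2, ← hx, ← hy] at h3
    rw [Sga4h.H918.FrobFix.sub_pow_card ρ]
    rw [sub_eq_iff_eq_add] at h3
    rw [h3]
    ring
  obtain ⟨a, U, hU, ha⟩ := Sga4h.H918.FrobFix.exists_open ρ (y - x) h1 t
  refine ⟨a, U, hU, ?_⟩
  apply hom_ext'
  · rw [Category.assoc, Category.assoc, Category.assoc, deck_cov, hw]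
  · rw [← Category.assoc, val_deck, val_comp, val_comp, ← hx, ← hy, Category.assoc, val_comp]
    have h4 : U.ι.appTop.hom (y - x) = U.ι.appTop.hom (ρ a) := ha
    rw [map_sub, sub_eq_iff_eq_add] at h4
    rw [h4, add_comm]
    rfl

/-- Local transitivity of the deck transformations. -/
theorem exists_sig (h : Etale (cov (Fintype.card k) g)) (T : (Spec (CommRingCat.of R)).Etale)
    (c g' : T ⟶ VE g h) (t : T.left) :
    ∃ (a : k) (T' : (Spec (CommRingCat.of R)).Etale) (j : T' ⟶ T) (t' : T'.left), j.left t' = t ∧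
      j ≫ g' = j ≫ c ≫ sig κ g h a := by
  have wc : c.left ≫ cov (Fintype.card k) g = T.hom := MorphismProperty.Over.w c
  have wg : g'.left ≫ cov (Fintype.card k) g = T.hom := MorphismProperty.Over.w g'
  obtain ⟨a, U, hU, he⟩ := exists_deck κ g T.left c.left g'.left (wc.trans wg.symm) t
  exact ⟨a, Etbase.EtGlue.opn T U, Etbase.EtGlue.opnι T U, ⟨t, hU⟩, rfl,
    MorphismProperty.Over.Hom.ext he⟩

end Groth.Agent.Sga4h.H928.ASDeck
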