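import Groth.Agent.Sga4h.H917.ConstOn

/-!
# Comparison of the characters of deck transformations

`Gen t F u`: the global section `u` of `t⁻¹ F` is a generator (`t⁻¹ F` is constant of rank one and `u` is
the section `1`).  `isConst_of_section`: `F` on `X` constant of rank one on the connected étale covering `V`
with locally transitive deck transformations `σ i`; if for some `f : X' ⟶ X` such that the deck
transformations extend to a connected covering of `X'`, the sheaf `f⁻¹ F` has a nonzero global section,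
then `F` is constant.
-/

set_option autoImplicit false
universe u

open CategoryTheory CategoryTheory.Limits AlgebraicGeometry Opposite

namespace Groth.Agent.Sga4h.H928.DeckCmp

open Groth.Agent.Etcore.LocSec Groth.Agent.Etcore.LocEt Groth.Agent.Etcore.PullCoh
open Groth.Agent.Sga4h.H917.GSec Groth.Agent.Sga4h.H917.Desc Groth.Agent.Etcore.HpullCalc

section Gen

variable {Λ : Type} [CommRing Λ] {X Y Y' : Scheme.{u}}

/-- `u` is a generator of `t⁻¹ F`. -/
def Gen (t : Y ⟶ X) (F : EtLam.Sheaf Λ X)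
    (u : EtCoh.sect ((EtCoh.pull t).obj F.carrier) (EtCoh.top Y)) : Prop :=
  ∃ ψ : (EtCoh.pull t).obj F.carrier ≅ EtCoh.const Y Λ,
    (∀ r : Λ, (EtCoh.pull t).map (F.act r) ≫ ψ.hom = ψ.hom ≫ FinFr.constSMul Y r) ∧
      app ψ.hom _ u = cst Y Λ (ULift.up 1)

theorem Gen.exists {t : Y ⟶ X} {F : EtLam.Sheaf Λ X} (h : LangSh.IsConstOn t F) : ∃ u, Gen t F u := by
  obtain ⟨ψ, hψ⟩ := h
  exact ⟨app ψ.inv _ (cst Y Λ (ULift.up 1)), ψ, hψ, by rw [← app_comp, Iso.inv_hom_id, app_id]⟩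

theorem Gen.pull {t : Y ⟶ X} {F : EtLam.Sheaf Λ X}
    {u : EtCoh.sect ((EtCoh.pull t).obj F.carrier) (EtCoh.top Y)} (h : Gen t F u) (f : Y' ⟶ Y)
    {t' : Y' ⟶ X} (w : f ≫ t = t') : Gen t' F (gpV f t w F.carrier u) := by
  obtain ⟨ψ, hψ, hu⟩ := h
  refine ⟨(asIso (thh f t w F.carrier)).symm ≪≫ (EtCoh.pull f).mapIso ψ ≪≫ EtCore.pullConst f Λ,
    fun r => ?_, ?_⟩
  · have h1 := thh_nat f t w (F.act r)
    have h2 : (EtCoh.pull f).map ((EtCoh.pull t).map (F.act r)) ≫ (EtCoh.pull f).map ψ.hom =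
        (EtCoh.pull f).map ψ.hom ≫ (EtCoh.pull f).map (FinFr.constSMul Y r) := by
      rw [← Functor.map_comp, ← Functor.map_comp, hψ]
    have h3 : (EtCoh.pull f).map (FinFr.constSMul Y r) ≫ (EtCore.pullConst f Λ).hom =
        (EtCore.pullConst f Λ).hom ≫ FinFr.constSMul Y' r :=
      (EtCore.pullConstIso f).hom.naturality _
    have h4 : (EtCoh.pull t').map (F.act r) ≫ inv (thh f t w F.carrier) =
        inv (thh f t w F.carrier) ≫ (EtCoh.pull f).map ((EtCoh.pull t).map (F.act r)) := by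
      rw [IsIso.comp_inv_eq, Category.assoc, h1, IsIso.inv_hom_id_assoc]
    simp only [Iso.trans_hom, Iso.symm_hom, asIso_inv, Functor.mapIso_hom]
    rw [← Category.assoc, h4, Category.assoc, ← Category.assoc ((EtCoh.pull f).map _), h2,
      Category.assoc, h3, Category.assoc, Category.assoc]
  · simp only [Iso.trans_hom, Iso.symm_hom, asIso_inv, Functor.mapIso_hom]
    rw [gpV_apply, app_comp, app_comp, ← app_comp (thh f t w F.carrier), IsIso.hom_inv_id, app_id,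
      ← gp_map, hu, gp_cst]

theorem app_pull_act (t : Y ⟶ X) (F : EtLam.Sheaf Λ X) (r s : Λ)
    (x : EtCoh.sect ((EtCoh.pull t).obj F.carrier) (EtCoh.top Y)) :
    app ((EtCoh.pull t).map (F.act r)) _ (app ((EtCoh.pull t).map (F.act s)) _ x) =
      app ((EtCoh.pull t).map (F.act (r * s))) _ x := by
  rw [← app_comp, ← Functor.map_comp, map_mul, End.mul_def]

variable {t : Y ⟶ X} {F : EtLam.Sheaf Λ X}
  {u : EtCoh.sect ((EtCoh.pull t).obj F.carrier) (EtCoh.top Y)}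

theorem Gen.rep [ConnectedSpace Y] (h : Gen t F u)
    (y : EtCoh.sect ((EtCoh.pull t).obj F.carrier) (EtCoh.top Y)) :
    ∃ r : Λ, y = app ((EtCoh.pull t).map (F.act r)) _ u := by
  obtain ⟨ψ, hψ, hu⟩ := h
  obtain ⟨⟨r⟩, hr⟩ := (cst_bijective Y Λ).2 (app ψ.hom _ y)
  refine ⟨r, ?_⟩
  apply (app_bijective ψ.hom _).1
  rw [← hr, ← app_comp, hψ, app_comp, hu]
  exact ((app_constSMul Y r 1).trans (by rw [mul_one])).symm

theorem Gen.inj [ConnectedSpace Y] (h : Gen t F u) {r s : Λ}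
    (e : app ((EtCoh.pull t).map (F.act r)) _ u = app ((EtCoh.pull t).map (F.act s)) _ u) : r = s := by
  obtain ⟨ψ, hψ, hu⟩ := h
  have key : ∀ a : Λ, app ψ.hom _ (app ((EtCoh.pull t).map (F.act a)) _ u) =
      cst Y Λ (ULift.up a) := by
    intro a
    rw [← app_comp, hψ, app_comp, hu]
    exact (app_constSMul Y a 1).trans (by rw [mul_one])
  have h1 := key r
  rw [e, key s] at h1
  exact congrArg ULift.down ((cst_bijective Y Λ).1 h1).symm

end Gen

theorem gp_injective {X Y : Scheme.{u}} (f : X ⟶ Y) [Surjective f] (G : EtCoh.Ab Y) :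
    Function.Injective (gp f G) := by
  have h1 := EtpbcB.SurjFaithful.mono_unit f G
  have h2 : (EtCore.gsec Y).IsRightAdjoint := (EtCore.constAdj Y).isRightAdjoint
  have h3 : Mono (unitSec f G) := by
    have h4 : Mono ((EtCore.gsec Y).map ((EtCoh.pullPushAdj f).unit.app G)) := inferInstance
    rw [unitSec]
    infer_instance
  exact (AddCommGrpCat.mono_iff_injective _).1 h3

section Main

variable {Λ : Type} [Field Λ]

theorem char_eq {X Y Y' : Scheme.{u}} (F : EtLam.Sheaf Λ X) (t : Y ⟶ X) (σ : Y ⟶ Y) (hw : σ ≫ t = t)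
    (φ : Y' ⟶ Y) (t' : Y' ⟶ X) (hφ : φ ≫ t = t') (σ' : Y' ⟶ Y') (w1 : σ' ≫ t' = t')
    (hσ : σ' ≫ φ = φ ≫ σ) (u : EtCoh.sect ((EtCoh.pull t).obj F.carrier) (EtCoh.top Y)) (χ : Λ)
    (hχ : gpV σ t hw F.carrier u = app ((EtCoh.pull t).map (F.act χ)) _ u) :
    gpV σ' t' w1 F.carrier (gpV φ t hφ F.carrier u) =
      app ((EtCoh.pull t').map (F.act χ)) _ (gpV φ t hφ F.carrier u) := by
  have w2 : (φ ≫ σ) ≫ t = t' := by rw [Category.assoc, hw, hφ]
  have h1 := gpV_comp σ' φ t (ft := φ ≫ σ) (ts := t') (fts := t') hσ hφ w1 w2 F.carrier u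
  have h2 := gpV_comp φ σ t (ft := φ ≫ σ) (ts := t) (fts := t') rfl hw hφ w2 F.carrier u
  rw [h1, ← h2, hχ]
  exact gpV_map φ t hφ (F.act χ) u

theorem gen_inv {X X' Y Y' : Scheme.{u}} (f : X' ⟶ X) (F : EtLam.Sheaf Λ X) (t : Y ⟶ X)
    [ConnectedSpace Y] (p' : Y' ⟶ X') [Surjective p'] [ConnectedSpace Y'] (φ : Y' ⟶ Y)
    (t' : Y' ⟶ X) (hφ : φ ≫ t = t') (hp : p' ≫ f = t')
    (u : EtCoh.sect ((EtCoh.pull t).obj F.carrier) (EtCoh.top Y)) (hu : Gen t F u)
    (σ : Y ⟶ Y) (σ' : Y' ⟶ Y') (hσ : σ' ≫ φ = φ ≫ σ) (hσ' : σ' ≫ p' = p') (hw : σ ≫ t = t)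
    (s' : EtCoh.sect ((EtCoh.pull f).obj F.carrier) (EtCoh.top X')) (hs' : s' ≠ 0) :
    gpV σ t hw F.carrier u = u := by
  have hu' : Gen t' F (gpV φ t hφ F.carrier u) := hu.pull φ hφ
  obtain ⟨l, hl⟩ := hu'.rep (gpV p' f hp F.carrier s')
  have hl0 : l ≠ 0 := by
    rintro rfl
    apply hs'
    have h1 : gpV p' f hp F.carrier s' = 0 := by
      rw [hl, map_zero, Functor.map_zero]
      rfl
    have h2 : gp p' _ s' = 0 := by
      apply (app_bijective (thh p' f hp F.carrier) _).1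
      rw [map_zero]
      exact h1
    exact gp_injective p' _ (h2.trans (map_zero _).symm)
  obtain ⟨χ, hχ⟩ := hu.rep (gpV σ t hw F.carrier u)
  have w1 : σ' ≫ t' = t' := by rw [← hp, ← Category.assoc, hσ']
  have h1 := char_eq F t σ hw φ t' hφ σ' w1 hσ u χ hχ
  have h2 : gpV σ' t' w1 F.carrier (gpV p' f hp F.carrier s') = gpV p' f hp F.carrier s' :=
    gpV_comp σ' p' f hσ' hp w1 hp F.carrier s'
  rw [hl, gpV_map, h1, app_pull_act] at h2
  have h3 := hu'.inj h2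
  have h4 : χ = 1 := by
    have h5 : l * χ = l * 1 := by rw [h3, mul_one]
    exact mul_left_cancel₀ hl0 h5
  rw [hχ, h4, map_one, End.one_def, CategoryTheory.Functor.map_id, app_id]

theorem descend {X : Scheme.{u}} (F : EtLam.Sheaf Λ X) (V : X.Etale)
    (hV : Function.Surjective V.hom)
    (u : EtCoh.sect ((EtCoh.pull V.hom).obj F.carrier) (EtCoh.top V.left))
    (hu : Gen (Y := V.left) V.hom F u) {ι : Type*} (σ : ι → (V ⟶ V))
    (hw : ∀ i, (σ i).left ≫ V.hom = V.hom)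
    (hinv : ∀ i, gpV (σ i).left V.hom (hw i) F.carrier u = u)
    (htr : ∀ (T : X.Etale) (c g : T ⟶ V) (t : T.left), ∃ (i : ι) (T' : X.Etale) (j : T' ⟶ T)
      (t' : T'.left), j.left t' = t ∧ j ≫ g = j ≫ c ≫ σ i) : IsConst F := by
  obtain ⟨u₀, hu₀⟩ := (lo_bijective V F.carrier).2 u
  have hinv₀ : ∀ i, res F.carrier (σ i) u₀ = u₀ := by
    intro i
    apply (lo_bijective V F.carrier).1
    have h1 := gpV_lo (σ i) (hw i) F.carrier u₀
    rw [hu₀] at h1
    exact h1.symm.trans ((hinv i).trans hu₀.symm)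
  obtain ⟨s₀, hs₀⟩ := exists_descend F.carrier V hV u₀ (by
    intro T c g t
    obtain ⟨i, T', j, t', ht', he⟩ := htr T c g t
    refine ⟨T', j, t', ht', ?_⟩
    rw [he, ← res_res F.carrier j (c ≫ σ i), ← res_res F.carrier c (σ i), hinv₀ i, ← res_res])
  have : Surjective V.hom := ⟨hV⟩
  obtain ⟨ψ, hψ, hψu⟩ := hu
  refine isConst_of_glob (Y := V.left) V.hom F ψ hψ s₀ ?_
  have h5 : gp V.hom F.carrier s₀ = lo V F.carrier u₀ := by rw [gp_lo, hs₀]
  exact (congrArg (app ψ.hom (EtCoh.top V.left)) (h5.trans hu₀)).trans hψu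

/-- **Comparison.** -/
theorem isConst_of_section {X X' V' : Scheme.{u}} (f : X' ⟶ X) (F : EtLam.Sheaf Λ X) (V : X.Etale)
    [ConnectedSpace V.left] (hV : Function.Surjective V.hom) (p' : V' ⟶ X') [Surjective p']
    [ConnectedSpace V'] (φ : V' ⟶ V.left) (hφ : φ ≫ V.hom = p' ≫ f)
    (hF : LangSh.IsConstOn (Y := V.left) V.hom F) {ι : Type*} (σ : ι → (V ⟶ V)) (σ' : ι → (V' ⟶ V'))
    (hσ : ∀ i, σ' i ≫ φ = φ ≫ (σ i).left) (hσ' : ∀ i, σ' i ≫ p' = p')
    (htr : ∀ (T : X.Etale) (c g : T ⟶ V) (t : T.left), ∃ (i : ι) (T' : X.Etale) (j : T' ⟶ T)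
      (t' : T'.left), j.left t' = t ∧ j ≫ g = j ≫ c ≫ σ i)
    (s' : EtCoh.sect ((EtCoh.pull f).obj F.carrier) (EtCoh.top X')) (hs' : s' ≠ 0) : IsConst F := by
  obtain ⟨u, hu⟩ := Gen.exists (Y := V.left) (t := V.hom) hF
  have hw : ∀ i, (σ i).left ≫ V.hom = V.hom := fun i => MorphismProperty.Over.w (σ i)
  exact descend F V hV u hu σ hw (fun i => gen_inv (Y := V.left) f F V.hom p' φ (p' ≫ f) hφ rfl u hu
    (σ i).left (σ' i) (hσ i) (hσ' i) (hw i) s' hs') htr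

end Main

end Groth.Agent.Sga4h.H928.DeckCmp
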