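import Groth.Agent.EtpbcB.HRel
import Groth.Agent.Etrest.HPost2

/-!
# Endomorphisms over a base acting trivially on relative étale cohomology

`ActsTriv γ t w G n`: the endomorphism `γ` of `W` over `T` (`γ ≫ t = t`) acts as the identity on
`H^n(W, t⁻¹ G)`.  Stability under isomorphisms and surjections in `G`, connecting maps, change of `W`
and of `T`.
-/

set_option autoImplicit false

open CategoryTheory CategoryTheory.Limits AlgebraicGeometry Opposite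
open CategoryTheory.Abelian

universe u

namespace Groth.Agent.Sga4h.H928.Triv

open Groth.Agent.Etcore.PullCoh Groth.Agent.Sga4B.ExtCmp Groth.Agent.EtpbcB.HRel
open Groth.Agent.Etrest.HPost

variable {W W' T T' : Scheme.{u}}

/-- `γ` acts as the identity on `H^n(W, t⁻¹ G)`. -/
def ActsTriv (γ : W ⟶ W) (t : W ⟶ T) (w : γ ≫ t = t) (G : EtCoh.Ab T) (n : ℕ) : Prop :=
  ∀ x : EtCoh.H W ((EtCoh.pull t).obj G) n, EtCore.HpullVia γ t t w G n x = x

/-- Naturality of `HpullVia` in the sheaf, with `post`. -/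
theorem HpullVia_post_nat {X Y Z : Scheme.{u}} (f : X ⟶ Y) (t : Y ⟶ Z) (f₀ : X ⟶ Z) (w : f ≫ t = f₀)
    {G G' : EtCoh.Ab Z} (φ : G ⟶ G') (n : ℕ) (x : EtCoh.H Y ((EtCoh.pull t).obj G) n) :
    EtCore.HpullVia f t f₀ w G' n (post ((EtCoh.pull t).map φ) n x) =
      post ((EtCoh.pull f₀).map φ) n (EtCore.HpullVia f t f₀ w G n x) :=
  HpullVia_nat f f₀ t w φ n x

/-- The connecting map is natural. -/
theorem conn_natural {X : Scheme.{u}} {S S' : ShortComplex (EtCoh.Ab X)} (hS : S.ShortExact)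
    (hS' : S'.ShortExact) (τ : S ⟶ S') (n : ℕ) (x : EtCoh.H X S.X₃ n) :
    post τ.τ₁ (n + 1) (conn hS n x) = conn hS' n (post τ.τ₃ n x) := by
  change Ext.comp (Ext.comp x hS.extClass rfl) (Ext.mk₀ τ.τ₁) (add_zero _) =
    Ext.comp (Ext.comp x (Ext.mk₀ τ.τ₃) (add_zero n)) hS'.extClass rfl
  rw [Ext.comp_assoc_of_third_deg_zero, ShortComplex.ShortExact.extClass_naturality hS hS' τ,
    Ext.comp_assoc_of_second_deg_zero]

/-- `HpullVia` commutes with the connecting maps. -/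
theorem HpullVia_conn {X Y Z : Scheme.{u}} (f : X ⟶ Y) (t : Y ⟶ Z) (f₀ : X ⟶ Z) (w : f ≫ t = f₀)
    {S : ShortComplex (EtCoh.Ab Z)} (hS : S.ShortExact) (n : ℕ)
    (x : EtCoh.H Y ((EtCoh.pull t).obj S.X₃) n) :
    EtCore.HpullVia f t f₀ w S.X₁ (n + 1) (conn (hS.map_of_exact (EtCoh.pull t)) n x) =
      conn (hS.map_of_exact (EtCoh.pull f₀)) n (EtCore.HpullVia f t f₀ w S.X₃ n x) := by
  rw [HpullVia_post, HpullVia_post]
  have h1 := Hpull_conn f (hS.map_of_exact (EtCoh.pull t)) n x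
  refine (congrArg (post (th f t f₀ w S.X₁) (n + 1)) h1).trans ?_
  let τ : (S.map (EtCoh.pull t)).map (EtCoh.pull f) ⟶ S.map (EtCoh.pull f₀) :=
    { τ₁ := th f t f₀ w S.X₁
      τ₂ := th f t f₀ w S.X₂
      τ₃ := th f t f₀ w S.X₃
      comm₁₂ := (th_nat f t f₀ w S.f).symm
      comm₂₃ := (th_nat f t f₀ w S.g).symm }
  exact conn_natural ((hS.map_of_exact (EtCoh.pull t)).map_of_exact (EtCoh.pull f))
    (hS.map_of_exact (EtCoh.pull f₀)) τ n _

section Basic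

variable {γ : W ⟶ W} {t : W ⟶ T} {w : γ ≫ t = t}

theorem ActsTriv.of_surjective {G G' : EtCoh.Ab T} (φ : G ⟶ G') {n : ℕ}
    (hs : Function.Surjective (post ((EtCoh.pull t).map φ) n)) (h : ActsTriv γ t w G n) :
    ActsTriv γ t w G' n := by
  intro y
  obtain ⟨x, rfl⟩ := hs y
  rw [HpullVia_post_nat, h x]

theorem ActsTriv.of_iso {G G' : EtCoh.Ab T} (e : G ≅ G') {n : ℕ} (h : ActsTriv γ t w G n) :
    ActsTriv γ t w G' n :=
  h.of_surjective e.hom (post_bijective ((EtCoh.pull t).map e.hom) n).2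

theorem ActsTriv.of_injective {G G' : EtCoh.Ab T} (φ : G ⟶ G') {n : ℕ}
    (hs : Function.Injective (post ((EtCoh.pull t).map φ) n)) (h : ActsTriv γ t w G' n) :
    ActsTriv γ t w G n := by
  intro x
  apply hs
  rw [← HpullVia_post_nat, h]

theorem ActsTriv.conn {S : ShortComplex (EtCoh.Ab T)} (hS : S.ShortExact) {n : ℕ}
    (hs : Function.Surjective (conn (hS.map_of_exact (EtCoh.pull t)) n)) (h : ActsTriv γ t w S.X₃ n) :
    ActsTriv γ t w S.X₁ (n + 1) := by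
  intro y
  obtain ⟨x, rfl⟩ := hs y
  rw [HpullVia_conn γ t t w hS n x, h x]

end Basic

/-- Change of `W`. -/
theorem triv_of_hom {γ : W ⟶ W} {γ' : W' ⟶ W'} (t : W ⟶ T) (t' : W' ⟶ T) (w : γ ≫ t = t)
    (w' : γ' ≫ t' = t') (φ : W' ⟶ W) (hφ : φ ≫ t = t') (hc : φ ≫ γ = γ' ≫ φ) (G : EtCoh.Ab T) (n : ℕ)
    (hi : Function.Injective (EtCore.HpullVia φ t t' hφ G n)) (h : ActsTriv γ' t' w' G n) :
    ActsTriv γ t w G n := by
  intro x
  apply hi
  have h1 := HpullVia_comp φ γ (φ ≫ γ) t' t t rfl hφ w (by rw [Category.assoc, w, hφ]) G n x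
  have h2 := HpullVia_comp γ' φ (φ ≫ γ) t' t' t hc.symm w' hφ (by rw [Category.assoc, w, hφ]) G n x
  rw [h1, ← h2, h]

/-- Change of `W`, other direction. -/
theorem triv_of_hom' {γ : W ⟶ W} {γ' : W' ⟶ W'} (t : W ⟶ T) (t' : W' ⟶ T) (w : γ ≫ t = t)
    (w' : γ' ≫ t' = t') (φ : W' ⟶ W) (hφ : φ ≫ t = t') (hc : φ ≫ γ = γ' ≫ φ) (G : EtCoh.Ab T) (n : ℕ)
    (hs : Function.Surjective (EtCore.HpullVia φ t t' hφ G n)) (h : ActsTriv γ t w G n) :
    ActsTriv γ' t' w' G n := by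
  intro y
  obtain ⟨x, rfl⟩ := hs y
  have h1 := HpullVia_comp φ γ (φ ≫ γ) t' t t rfl hφ w (by rw [Category.assoc, w, hφ]) G n x
  have h2 := HpullVia_comp γ' φ (φ ≫ γ) t' t' t hc.symm w' hφ (by rw [Category.assoc, w, hφ]) G n x
  rw [h2, ← h1, h]

/-- Change of the reference scheme in the relative pullback. -/
theorem HpullVia_change {X Y Z T : Scheme.{u}} (f : X ⟶ Y) (t : Y ⟶ Z) (s : Z ⟶ T)
    (ft : X ⟶ Z) (ts : Y ⟶ T) (fts : X ⟶ T) (w₁ : f ≫ t = ft) (w₂ : t ≫ s = ts)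
    (w₃ : f ≫ ts = fts) (w₄ : ft ≫ s = fts) (G : EtCoh.Ab T) (p : ℕ)
    (ξ : EtCoh.H Y ((EtCoh.pull t).obj ((EtCoh.pull s).obj G)) p) :
    EtCore.HpullVia f ts fts w₃ G p (post (th t s ts w₂ G) p ξ) =
      post (th ft s fts w₄ G) p (EtCore.HpullVia f t ft w₁ ((EtCoh.pull s).obj G) p ξ) := by
  rw [post_apply, post_apply, Groth.Agent.EtpbcB.HRel.HpullVia_eq,
    Groth.Agent.EtpbcB.HRel.HpullVia_eq, cmp_mk₀, Ext.comp_assoc_of_third_deg_zero,
    Ext.mk₀_comp_mk₀, th_assoc f t s ft ts fts w₁ w₂ w₃ w₄, Ext.comp_assoc_of_third_deg_zero,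
    Ext.mk₀_comp_mk₀]

theorem th_bijective {X Y Z : Scheme.{u}} (f : X ⟶ Y) (t : Y ⟶ Z) (f₀ : X ⟶ Z) (w : f ≫ t = f₀)
    (G : EtCoh.Ab Z) (n : ℕ) : Function.Bijective (post (th f t f₀ w G) n) := by
  have : IsIso (th f t f₀ w G) := by
    change IsIso ((theta f t f₀ w).hom.app G)
    infer_instance
  exact post_bijective _ n

/-- Change of `T`. -/
theorem triv_change_iff {γ : W ⟶ W} (t : W ⟶ T) (s : T ⟶ T') (ts : W ⟶ T') (hts : t ≫ s = ts)
    (w : γ ≫ t = t) (w' : γ ≫ ts = ts) (G : EtCoh.Ab T') (n : ℕ) :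
    ActsTriv γ t w ((EtCoh.pull s).obj G) n ↔ ActsTriv γ ts w' G n := by
  have key := HpullVia_change γ t s t ts ts w hts w' hts G n
  constructor
  · intro h y
    obtain ⟨x, rfl⟩ := (th_bijective t s ts hts G n).2 y
    rw [key, h x]
  · intro h x
    apply (th_bijective t s ts hts G n).1
    rw [← key, h]

end Groth.Agent.Sga4h.H928.Triv
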